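import Mathlib
import Cfsg.Agent.Lib.Helper56.TC
import Cfsg.Agent.Lib.Helper28.HeMult.L1.C0
import Cfsg.Agent.Lib.Helper28.HeMult.L1.C1
import Cfsg.Agent.Lib.Helper28.HeMult.L1.C2
import Cfsg.Agent.Lib.Helper28.HeMult.L1.C3
import Cfsg.Agent.Lib.Helper28.HeMult.L1.C4
import Cfsg.Agent.Lib.Helper28.HeMult.L1.C5
import Cfsg.Agent.Lib.Helper28.HeMult.L1.C6
import Cfsg.Agent.Lib.Helper28.HeMult.L1.C7
import Cfsg.Agent.Lib.Helper28.HeMult.L1.C8
import Cfsg.Agent.Lib.Helper28.HeMult.L1.C9
import Cfsg.Agent.Lib.Helper28.HeMult.L1.C10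
set_option autoImplicit false
set_option maxRecDepth 1000000

namespace Cfsg.Agent.Lib.Helper28.HeMult.L1

open Cfsg.Agent.Lib.Helper56.TC Cfsg.Agent.Lib.Helper56.TC.Tabs
open Cfsg.Agent.Lib.Helper28.CovL

theorem uN_1153 : Upto T.chkName 1153 := upto_add (upto_zero T.chkName) rfl cN_0
theorem uN_2310 : Upto T.chkName 2310 := upto_add uN_1153 rfl cN_1153
theorem uN_3316 : Upto T.chkName 3316 := upto_add uN_2310 rfl cN_2310
theorem uN_4352 : Upto T.chkName 4352 := upto_add uN_3316 rfl cN_3316
theorem uN_5401 : Upto T.chkName 5401 := upto_add uN_4352 rfl cN_4352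
theorem uN_6443 : Upto T.chkName 6443 := upto_add uN_5401 rfl cN_5401
theorem uN_7512 : Upto T.chkName 7512 := upto_add uN_6443 rfl cN_6443
theorem uN_8628 : Upto T.chkName 8628 := upto_add uN_7512 rfl cN_7512
theorem uN_9746 : Upto T.chkName 9746 := upto_add uN_8628 rfl cN_8628
theorem uN_10910 : Upto T.chkName 10910 := upto_add uN_9746 rfl cN_9746
theorem uN_12091 : Upto T.chkName 12091 := upto_add uN_10910 rfl cN_10910
theorem uN_13301 : Upto T.chkName 13301 := upto_add uN_12091 rfl cN_12091
theorem uN_14506 : Upto T.chkName 14506 := upto_add uN_13301 rfl cN_13301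
theorem uN_15721 : Upto T.chkName 15721 := upto_add uN_14506 rfl cN_14506
theorem uN_16915 : Upto T.chkName 16915 := upto_add uN_15721 rfl cN_15721
theorem uN_18123 : Upto T.chkName 18123 := upto_add uN_16915 rfl cN_16915
theorem uN_19354 : Upto T.chkName 19354 := upto_add uN_18123 rfl cN_18123
theorem uN_20581 : Upto T.chkName 20581 := upto_add uN_19354 rfl cN_19354
theorem uN_21818 : Upto T.chkName 21818 := upto_add uN_20581 rfl cN_20581
theorem uN_23062 : Upto T.chkName 23062 := upto_add uN_21818 rfl cN_21818
theorem uN_24275 : Upto T.chkName 24275 := upto_add uN_23062 rfl cN_23062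
theorem uN_25480 : Upto T.chkName 25480 := upto_add uN_24275 rfl cN_24275
theorem uN_26663 : Upto T.chkName 26663 := upto_add uN_25480 rfl cN_25480
theorem uN_27872 : Upto T.chkName 27872 := upto_add uN_26663 rfl cN_26663
theorem uN_29056 : Upto T.chkName 29056 := upto_add uN_27872 rfl cN_27872
theorem uN_30218 : Upto T.chkName 30218 := upto_add uN_29056 rfl cN_29056
theorem uN_31402 : Upto T.chkName 31402 := upto_add uN_30218 rfl cN_30218
theorem uN_32540 : Upto T.chkName 32540 := upto_add uN_31402 rfl cN_31402
theorem uN_33718 : Upto T.chkName 33718 := upto_add uN_32540 rfl cN_32540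
theorem uN_34792 : Upto T.chkName 34792 := upto_add uN_33718 rfl cN_33718
theorem uN_35965 : Upto T.chkName 35965 := upto_add uN_34792 rfl cN_34792
theorem uN_37148 : Upto T.chkName 37148 := upto_add uN_35965 rfl cN_35965
theorem uN_38343 : Upto T.chkName 38343 := upto_add uN_37148 rfl cN_37148
theorem uN_39575 : Upto T.chkName 39575 := upto_add uN_38343 rfl cN_38343
theorem uN_40817 : Upto T.chkName 40817 := upto_add uN_39575 rfl cN_39575
theorem uN_42059 : Upto T.chkName 42059 := upto_add uN_40817 rfl cN_40817
theorem uN_43324 : Upto T.chkName 43324 := upto_add uN_42059 rfl cN_42059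
theorem uN_44584 : Upto T.chkName 44584 := upto_add uN_43324 rfl cN_43324
theorem uN_45739 : Upto T.chkName 45739 := upto_add uN_44584 rfl cN_44584
theorem uN_46820 : Upto T.chkName 46820 := upto_add uN_45739 rfl cN_45739
theorem uN_47906 : Upto T.chkName 47906 := upto_add uN_46820 rfl cN_46820
theorem uN_48954 : Upto T.chkName 48954 := upto_add uN_47906 rfl cN_47906
theorem uN_50057 : Upto T.chkName 50057 := upto_add uN_48954 rfl cN_48954
theorem uN_51091 : Upto T.chkName 51091 := upto_add uN_50057 rfl cN_50057
theorem uN_52108 : Upto T.chkName 52108 := upto_add uN_51091 rfl cN_51091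
theorem uN_53142 : Upto T.chkName 53142 := upto_add uN_52108 rfl cN_52108
theorem uN_54196 : Upto T.chkName 54196 := upto_add uN_53142 rfl cN_53142
theorem uN_55285 : Upto T.chkName 55285 := upto_add uN_54196 rfl cN_54196
theorem uN_56398 : Upto T.chkName 56398 := upto_add uN_55285 rfl cN_55285
theorem uN_57532 : Upto T.chkName 57532 := upto_add uN_56398 rfl cN_56398
theorem uN_58636 : Upto T.chkName 58636 := upto_add uN_57532 rfl cN_57532
theorem uN_59724 : Upto T.chkName 59724 := upto_add uN_58636 rfl cN_58636
theorem uN_60849 : Upto T.chkName 60849 := upto_add uN_59724 rfl cN_59724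
theorem uN_62012 : Upto T.chkName 62012 := upto_add uN_60849 rfl cN_60849
theorem uN_63193 : Upto T.chkName 63193 := upto_add uN_62012 rfl cN_62012
theorem uN_64374 : Upto T.chkName 64374 := upto_add uN_63193 rfl cN_63193
theorem uN_65552 : Upto T.chkName 65552 := upto_add uN_64374 rfl cN_64374
theorem uN_66752 : Upto T.chkName 66752 := upto_add uN_65552 rfl cN_65552
theorem uN_67961 : Upto T.chkName 67961 := upto_add uN_66752 rfl cN_66752
theorem uN_69158 : Upto T.chkName 69158 := upto_add uN_67961 rfl cN_67961
theorem uN_70329 : Upto T.chkName 70329 := upto_add uN_69158 rfl cN_69158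
theorem uN_71441 : Upto T.chkName 71441 := upto_add uN_70329 rfl cN_70329
theorem uN_72555 : Upto T.chkName 72555 := upto_add uN_71441 rfl cN_71441
theorem uN_73652 : Upto T.chkName 73652 := upto_add uN_72555 rfl cN_72555
theorem uN_74771 : Upto T.chkName 74771 := upto_add uN_73652 rfl cN_73652
theorem uN_75947 : Upto T.chkName 75947 := upto_add uN_74771 rfl cN_74771
theorem uN_77080 : Upto T.chkName 77080 := upto_add uN_75947 rfl cN_75947
theorem uN_78130 : Upto T.chkName 78130 := upto_add uN_77080 rfl cN_77080
theorem uN_79302 : Upto T.chkName 79302 := upto_add uN_78130 rfl cN_78130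
theorem uN_80513 : Upto T.chkName 80513 := upto_add uN_79302 rfl cN_79302
theorem uN_81689 : Upto T.chkName 81689 := upto_add uN_80513 rfl cN_80513
theorem uN_82835 : Upto T.chkName 82835 := upto_add uN_81689 rfl cN_81689
theorem uN_83916 : Upto T.chkName 83916 := upto_add uN_82835 rfl cN_82835
theorem uN_85074 : Upto T.chkName 85074 := upto_add uN_83916 rfl cN_83916
theorem uN_86248 : Upto T.chkName 86248 := upto_add uN_85074 rfl cN_85074
theorem uN_87439 : Upto T.chkName 87439 := upto_add uN_86248 rfl cN_86248
theorem uN_88660 : Upto T.chkName 88660 := upto_add uN_87439 rfl cN_87439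
theorem uN_89842 : Upto T.chkName 89842 := upto_add uN_88660 rfl cN_88660
theorem uN_91034 : Upto T.chkName 91034 := upto_add uN_89842 rfl cN_89842
theorem uN_92224 : Upto T.chkName 92224 := upto_add uN_91034 rfl cN_91034
theorem uN_93411 : Upto T.chkName 93411 := upto_add uN_92224 rfl cN_92224
theorem uN_94557 : Upto T.chkName 94557 := upto_add uN_93411 rfl cN_93411
theorem uN_95699 : Upto T.chkName 95699 := upto_add uN_94557 rfl cN_94557
theorem uN_96789 : Upto T.chkName 96789 := upto_add uN_95699 rfl cN_95699
theorem uN_97911 : Upto T.chkName 97911 := upto_add uN_96789 rfl cN_96789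
theorem uN_99052 : Upto T.chkName 99052 := upto_add uN_97911 rfl cN_97911
theorem uN_100191 : Upto T.chkName 100191 := upto_add uN_99052 rfl cN_99052
theorem uN_101367 : Upto T.chkName 101367 := upto_add uN_100191 rfl cN_100191
theorem uN_102464 : Upto T.chkName 102464 := upto_add uN_101367 rfl cN_101367
theorem uN_103639 : Upto T.chkName 103639 := upto_add uN_102464 rfl cN_102464
theorem uN_104815 : Upto T.chkName 104815 := upto_add uN_103639 rfl cN_103639
theorem uN_105967 : Upto T.chkName 105967 := upto_add uN_104815 rfl cN_104815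
theorem uN_107135 : Upto T.chkName 107135 := upto_add uN_105967 rfl cN_105967
theorem uN_108226 : Upto T.chkName 108226 := upto_add uN_107135 rfl cN_107135
theorem uN_109284 : Upto T.chkName 109284 := upto_add uN_108226 rfl cN_108226
theorem uN_110346 : Upto T.chkName 110346 := upto_add uN_109284 rfl cN_109284
theorem uN_111516 : Upto T.chkName 111516 := upto_add uN_110346 rfl cN_110346
theorem uN_112702 : Upto T.chkName 112702 := upto_add uN_111516 rfl cN_111516
theorem uN_113742 : Upto T.chkName 113742 := upto_add uN_112702 rfl cN_112702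
theorem uN_114851 : Upto T.chkName 114851 := upto_add uN_113742 rfl cN_113742
theorem uN_115998 : Upto T.chkName 115998 := upto_add uN_114851 rfl cN_114851
theorem uN_117050 : Upto T.chkName 117050 := upto_add uN_115998 rfl cN_115998
theorem uN_118184 : Upto T.chkName 118184 := upto_add uN_117050 rfl cN_117050
theorem uN_119293 : Upto T.chkName 119293 := upto_add uN_118184 rfl cN_118184
theorem uN_120481 : Upto T.chkName 120481 := upto_add uN_119293 rfl cN_119293
theorem uN_121695 : Upto T.chkName 121695 := upto_add uN_120481 rfl cN_120481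
theorem uN_122893 : Upto T.chkName 122893 := upto_add uN_121695 rfl cN_121695
theorem uN_124014 : Upto T.chkName 124014 := upto_add uN_122893 rfl cN_122893
theorem uN_125161 : Upto T.chkName 125161 := upto_add uN_124014 rfl cN_124014
theorem uN_126390 : Upto T.chkName 126390 := upto_add uN_125161 rfl cN_125161
theorem uN_127538 : Upto T.chkName 127538 := upto_add uN_126390 rfl cN_126390
theorem uN_128603 : Upto T.chkName 128603 := upto_add uN_127538 rfl cN_127538
theorem uN_129813 : Upto T.chkName 129813 := upto_add uN_128603 rfl cN_128603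
theorem uN_131040 : Upto T.chkName 131040 := upto_add uN_129813 rfl cN_129813
theorem uN_132238 : Upto T.chkName 132238 := upto_add uN_131040 rfl cN_131040
theorem uN_133373 : Upto T.chkName 133373 := upto_add uN_132238 rfl cN_132238
theorem uN_134513 : Upto T.chkName 134513 := upto_add uN_133373 rfl cN_133373
theorem uN_135725 : Upto T.chkName 135725 := upto_add uN_134513 rfl cN_134513
theorem uN_136896 : Upto T.chkName 136896 := upto_add uN_135725 rfl cN_135725
theorem uN_138007 : Upto T.chkName 138007 := upto_add uN_136896 rfl cN_136896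
theorem uN_138939 : Upto T.chkName 138939 := upto_add uN_138007 rfl cN_138007
theorem uF_240 : Upto T.chkFinName 240 := upto_add (upto_zero T.chkFinName) rfl cF_0

/-- The certificate is valid. -/
theorem certC : CertC T where
  hNN := by decide +kernel
  hN := by decide +kernel
  hinvK := by decide +kernel
  hinvli := by decide +kernel
  hsubK := by decide +kernel
  hrelK := by decide +kernel
  hrx := by decide +kernel
  hchk := uN_138939
  hfin := uF_240

end Cfsg.Agent.Lib.Helper28.HeMult.L1
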