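import Mathlib
import Cfsg.Agent.Lib.Helper56.TC
import Cfsg.Agent.Lib.Helper56.TCFast
import Cfsg.Agent.Lib.Helper28.CoverL
import Cfsg.Agent.Lib.Helper28.HeMult.Words
import Cfsg.Agent.Lib.Helper28.HeMult.L1.DA0
import Cfsg.Agent.Lib.Helper28.HeMult.L1.DA1
import Cfsg.Agent.Lib.Helper28.HeMult.L1.DA2
set_option autoImplicit false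
set_option maxRecDepth 1000000

namespace Cfsg.Agent.Lib.Helper28.HeMult.L1

open Cfsg.Agent.Lib.Helper56.TC Cfsg.Agent.Lib.Helper56.TC.Tabs
open Cfsg.Agent.Lib.Helper28.CovL

open Cfsg.Agent.Lib.Helper28.HeMult.Words

noncomputable def nA : List (List ℕ) := [nA0, nA1, nA2, nA3, nA4, nA5, nA6, nA7, nA8, nA9, nA10, nA11, nA12, nA13, nA14, nA15, nA16, nA17, nA18, nA19, nA20, nA21, nA22, nA23, nA24, nA25, nA26, nA27, nA28, nA29, nA30, nA31, nA32, nA33, nA34, nA35, nA36, nA37, nA38, nA39, nA40, nA41, nA42, nA43, nA44, nA45, nA46, nA47, nA48, nA49, nA50, nA51, nA52, nA53, nA54, nA55, nA56, nA57, nA58, nA59, nA60, nA61, nA62, nA63, nA64, nA65, nA66, nA67,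 nA68, nA69, nA70, nA71, nA72, nA73, nA74, nA75, nA76, nA77, nA78, nA79, nA80, nA81, nA82, nA83, nA84, nA85, nA86, nA87, nA88, nA89, nA90, nA91, nA92, nA93, nA94, nA95, nA96, nA97, nA98]

noncomputable def fA : List (List ℕ) := [fA0]

/-- The certificate data. -/
noncomputable def T : Tabs where
  K := 6
  N := 240
  N' := 138939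
  INF := 159354
  fuel := 12
  inv := fun l => Tabs.nth 0 [1, 0, 3, 2, 5, 4] l
  tg := slotFld2 nA 44 369 1202453802380202612679414065556140558016349465041059773802132977424491020858679523053413887173001575952350707711 6 51 63 262143 (fun _ => 0)
  rk := slotFld2 nA 44 369 1202453802380202612679414065556140558016349465041059773802132977424491020858679523053413887173001575952350707711 6 51 81 262143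
    (fun x => Nat.rec (motive := fun _ => ℕ) 0 (fun _ _ => 159354) x)
  jc := slotFld2 nA 44 369 1202453802380202612679414065556140558016349465041059773802132977424491020858679523053413887173001575952350707711 6 51 99 32767
    (fun x => Nat.rec (motive := fun _ => ℕ) 3 (fun _ _ => 0) x)
  dd := fldA nA 44 369 1202453802380202612679414065556140558016349465041059773802132977424491020858679523053413887173001575952350707711 0 255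
  dl := fldA nA 44 369 1202453802380202612679414065556140558016349465041059773802132977424491020858679523053413887173001575952350707711 8 7
  qj := fldA nA 44 369 1202453802380202612679414065556140558016349465041059773802132977424491020858679523053413887173001575952350707711 11 65535
  mp := fldA nA 44 369 1202453802380202612679414065556140558016349465041059773802132977424491020858679523053413887173001575952350707711 27 262143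
  mt := fldA nA 44 369 1202453802380202612679414065556140558016349465041059773802132977424491020858679523053413887173001575952350707711 45 262143
  tb := tbFld2 fA 234 70 1180591620717411303423 8 22 255
  rels1 := coverList 3 relL1 (fun x => facsL1.getD x [])
  subs := subs1
  rx := [[2, 0, 0, 3, 1, 1],
    [4, 0, 0, 5, 1, 1],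
    [0, 2, 2, 2, 1, 3, 3, 3],
    [4, 2, 2, 2, 5, 3, 3, 3],
    [0, 0, 2, 0, 2, 0, 2, 0, 2, 0, 2, 0, 2, 0, 2, 0, 2, 0, 2, 0, 2, 0, 2, 0, 2, 0, 2, 0, 2, 0, 2, 1, 3, 1, 3, 1, 3, 1, 3, 1, 3, 1, 3, 1, 3, 1, 3, 1, 3, 1, 3, 1, 3, 1, 3, 1, 3, 1, 3, 1, 3, 1],
    [2, 0, 2, 0, 2, 0, 2, 0, 2, 0, 2, 0, 2, 0, 2, 0, 2, 0, 2, 0, 2, 0, 2, 0, 2, 0, 2, 0, 2, 0, 2, 3, 3, 1, 3, 1, 3, 1, 3, 1, 3, 1, 3, 1, 3, 1, 3, 1, 3, 1, 3, 1, 3, 1, 3, 1, 3, 1, 3, 1, 3, 1],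
    [4, 0, 2, 0, 2, 0, 2, 0, 2, 0, 2, 0, 2, 0, 2, 0, 2, 0, 2, 0, 2, 0, 2, 0, 2, 0, 2, 0, 2, 0, 2, 5, 3, 1, 3, 1, 3, 1, 3, 1, 3, 1, 3, 1, 3, 1, 3, 1, 3, 1, 3, 1, 3, 1, 3, 1, 3, 1, 3, 1, 3, 1],
    [0, 0, 2, 0, 2, 0, 2, 0, 2, 0, 2, 0, 3, 0, 3, 0, 3, 0, 2, 0, 2, 0, 2, 0, 2, 0, 2, 0, 3, 0, 3, 0, 3, 1, 2, 1, 2, 1, 2, 1, 3, 1, 3, 1, 3, 1, 3, 1, 3, 1, 2, 1, 2, 1, 2, 1, 3, 1, 3, 1, 3, 1, 3, 1, 3, 1],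
    [2, 0, 2, 0, 2, 0, 2, 0, 2, 0, 2, 0, 3, 0, 3, 0, 3, 0, 2, 0, 2, 0, 2, 0, 2, 0, 2, 0, 3, 0, 3, 0, 3, 3, 2, 1, 2, 1, 2, 1, 3, 1, 3, 1, 3, 1, 3, 1, 3, 1, 2, 1, 2, 1, 2, 1, 3, 1, 3, 1, 3, 1, 3, 1, 3, 1],
    [4, 0, 2, 0, 2, 0, 2, 0, 2, 0, 2, 0, 3, 0, 3, 0, 3, 0, 2, 0, 2, 0, 2, 0, 2, 0, 2, 0, 3, 0, 3, 0, 3, 5, 2, 1, 2, 1, 2, 1, 3, 1, 3, 1, 3, 1, 3, 1, 3, 1, 2, 1, 2, 1, 2, 1, 3, 1, 3, 1, 3, 1, 3, 1, 3, 1],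
    [0, 5, 3, 4, 0, 2, 0, 1, 1, 3, 1, 5, 2, 4],
    [2, 5, 3, 4, 0, 2, 0, 3, 1, 3, 1, 5, 2, 4],
    [4, 5, 3, 4, 0, 2, 0, 5, 1, 3, 1, 5, 2, 4],
    [0, 5, 0, 5, 0, 5, 0, 1, 1, 4, 1, 4, 1, 4],
    [2, 5, 0, 5, 0, 5, 0, 3, 1, 4, 1, 4, 1, 4],
    [4, 5, 0, 5, 0, 5, 0, 5, 1, 4, 1, 4, 1, 4],
    [0, 5, 3, 3, 4, 0, 3, 0, 1, 1, 2, 1, 5, 2, 2, 4],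
    [2, 5, 3, 3, 4, 0, 3, 0, 3, 1, 2, 1, 5, 2, 2, 4],
    [4, 5, 3, 3, 4, 0, 3, 0, 5, 1, 2, 1, 5, 2, 2, 4],
    [0, 5, 3, 0, 5, 0, 5, 2, 0, 1, 1, 3, 4, 1, 4, 1, 2, 4],
    [2, 5, 3, 0, 5, 0, 5, 2, 0, 3, 1, 3, 4, 1, 4, 1, 2, 4],
    [4, 5, 3, 0, 5, 0, 5, 2, 0, 5, 1, 3, 4, 1, 4, 1, 2, 4],
    [0, 5, 3, 0, 5, 2, 0, 5, 0, 1, 1, 4, 1, 3, 4, 1, 2, 4],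
    [2, 5, 3, 0, 5, 2, 0, 5, 0, 3, 1, 4, 1, 3, 4, 1, 2, 4],
    [4, 5, 3, 0, 5, 2, 0, 5, 0, 5, 1, 4, 1, 3, 4, 1, 2, 4],
    [0, 4, 4, 4, 4, 4, 4, 4, 4, 4, 4, 1, 5, 5, 5, 5, 5, 5, 5, 5, 5, 5],
    [2, 4, 4, 4, 4, 4, 4, 4, 4, 4, 4, 3, 5, 5, 5, 5, 5, 5, 5, 5, 5, 5],
    [0, 5, 5, 5, 5, 5, 5, 5, 5, 5, 5, 1, 4, 4, 4, 4, 4, 4, 4, 4, 4, 4],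
    [2, 5, 5, 5, 5, 5, 5, 5, 5, 5, 5, 3, 4, 4, 4, 4, 4, 4, 4, 4, 4, 4],
    [0, 5, 5, 3, 0, 4, 2, 5, 0, 4, 4, 2, 1, 3, 5, 5, 1, 4, 3, 5, 1, 2, 4, 4],
    [2, 5, 5, 3, 0, 4, 2, 5, 0, 4, 4, 2, 3, 3, 5, 5, 1, 4, 3, 5, 1, 2, 4, 4],
    [4, 5, 5, 3, 0, 4, 2, 5, 0, 4, 4, 2, 5, 3, 5, 5, 1, 4, 3, 5, 1, 2, 4, 4],
    [0, 5, 5, 5, 5, 5, 0, 4, 4, 4, 4, 4, 0, 1, 1, 5, 5, 5, 5, 5, 1, 4, 4, 4, 4, 4],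
    [2, 5, 5, 5, 5, 5, 0, 4, 4, 4, 4, 4, 0, 3, 1, 5, 5, 5, 5, 5, 1, 4, 4, 4, 4, 4],
    [4, 5, 5, 5, 5, 5, 0, 4, 4, 4, 4, 4, 0, 5, 1, 5, 5, 5, 5, 5, 1, 4, 4, 4, 4, 4],
    [0, 5, 5, 5, 5, 0, 5, 5, 5, 5, 0, 4, 0, 1, 1, 5, 1, 4, 4, 4, 4, 1, 4, 4, 4, 4],
    [2, 5, 5, 5, 5, 0, 5, 5, 5, 5, 0, 4, 0, 3, 1, 5, 1, 4, 4, 4, 4, 1, 4, 4, 4, 4],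
    [4, 5, 5, 5, 5, 0, 5, 5, 5, 5, 0, 4, 0, 5, 1, 5, 1, 4, 4, 4, 4, 1, 4, 4, 4, 4],
    [0, 5, 5, 5, 0, 4, 0, 5, 5, 5, 0, 4, 0, 1, 1, 5, 1, 4, 4, 4, 1, 5, 1, 4, 4, 4],
    [2, 5, 5, 5, 0, 4, 0, 5, 5, 5, 0, 4, 0, 3, 1, 5, 1, 4, 4, 4, 1, 5, 1, 4, 4, 4],
    [4, 5, 5, 5, 0, 4, 0, 5, 5, 5, 0, 4, 0, 5, 1, 5, 1, 4, 4, 4, 1, 5, 1, 4, 4, 4],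
    [0, 5, 5, 3, 5, 0, 5, 2, 5, 3, 5, 2, 0, 1, 1, 3, 4, 2, 4, 3, 4, 1, 4, 2, 4, 4],
    [2, 5, 5, 3, 5, 0, 5, 2, 5, 3, 5, 2, 0, 3, 1, 3, 4, 2, 4, 3, 4, 1, 4, 2, 4, 4],
    [4, 5, 5, 3, 5, 0, 5, 2, 5, 3, 5, 2, 0, 5, 1, 3, 4, 2, 4, 3, 4, 1, 4, 2, 4, 4],
    [0, 5, 5, 3, 5, 2, 0, 5, 5, 3, 5, 2, 0, 1, 1, 3, 4, 2, 4, 4, 1, 3, 4, 2, 4, 4],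
    [2, 5, 5, 3, 5, 2, 0, 5, 5, 3, 5, 2, 0, 3, 1, 3, 4, 2, 4, 4, 1, 3, 4, 2, 4, 4],
    [4, 5, 5, 3, 5, 2, 0, 5, 5, 3, 5, 2, 0, 5, 1, 3, 4, 2, 4, 4, 1, 3, 4, 2, 4, 4],
    [0, 5, 5, 3, 0, 2, 4, 0, 5, 3, 5, 2, 0, 1, 1, 3, 4, 2, 4, 1, 5, 3, 1, 2, 4, 4],
    [2, 5, 5, 3, 0, 2, 4, 0, 5, 3, 5, 2, 0, 3, 1, 3, 4, 2, 4, 1, 5, 3, 1, 2, 4, 4],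
    [4, 5, 5, 3, 0, 2, 4, 0, 5, 3, 5, 2, 0, 5, 1, 3, 4, 2, 4, 1, 5, 3, 1, 2, 4, 4],
    [0, 5, 5, 3, 0, 4, 3, 3, 5, 0, 4, 4, 2, 1, 3, 5, 5, 1, 4, 2, 2, 5, 1, 2, 4, 4],
    [2, 5, 5, 3, 0, 4, 3, 3, 5, 0, 4, 4, 2, 3, 3, 5, 5, 1, 4, 2, 2, 5, 1, 2, 4, 4],
    [4, 5, 5, 3, 0, 4, 3, 3, 5, 0, 4, 4, 2, 5, 3, 5, 5, 1, 4, 2, 2, 5, 1, 2, 4, 4],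
    [0, 5, 5, 3, 0, 4, 0, 2, 5, 3, 5, 2, 0, 1, 1, 3, 4, 2, 4, 3, 1, 5, 1, 2, 4, 4],
    [2, 5, 5, 3, 0, 4, 0, 2, 5, 3, 5, 2, 0, 3, 1, 3, 4, 2, 4, 3, 1, 5, 1, 2, 4, 4],
    [4, 5, 5, 3, 0, 4, 0, 2, 5, 3, 5, 2, 0, 5, 1, 3, 4, 2, 4, 3, 1, 5, 1, 2, 4, 4],
    [0, 5, 5, 3, 0, 4, 2, 5, 0, 4, 4, 3, 3, 1, 2, 2, 5, 5, 1, 4, 3, 5, 1, 2, 4, 4],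
    [2, 5, 5, 3, 0, 4, 2, 5, 0, 4, 4, 3, 3, 3, 2, 2, 5, 5, 1, 4, 3, 5, 1, 2, 4, 4],
    [4, 5, 5, 3, 0, 4, 2, 5, 0, 4, 4, 3, 3, 5, 2, 2, 5, 5, 1, 4, 3, 5, 1, 2, 4, 4],
    [0, 5, 5, 3, 4, 4, 3, 5, 5, 3, 4, 4, 3, 1, 2, 5, 5, 2, 4, 4, 2, 5, 5, 2, 4, 4],
    [2, 5, 5, 3, 4, 4, 3, 5, 5, 3, 4, 4, 3, 3, 2, 5, 5, 2, 4, 4, 2, 5, 5, 2, 4, 4],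
    [4, 5, 5, 3, 4, 4, 3, 5, 5, 3, 4, 4, 3, 5, 2, 5, 5, 2, 4, 4, 2, 5, 5, 2, 4, 4],
    [0, 5, 5, 3, 4, 4, 3, 5, 0, 3, 0, 4, 3, 1, 2, 5, 1, 2, 1, 4, 2, 5, 5, 2, 4, 4],
    [2, 5, 5, 3, 4, 4, 3, 5, 0, 3, 0, 4, 3, 3, 2, 5, 1, 2, 1, 4, 2, 5, 5, 2, 4, 4],
    [4, 5, 5, 3, 4, 4, 3, 5, 0, 3, 0, 4, 3, 5, 2, 5, 1, 2, 1, 4, 2, 5, 5, 2, 4, 4],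
    [0, 5, 5, 0, 4, 3, 5, 0, 3, 3, 4, 4, 3, 1, 2, 5, 5, 2, 2, 1, 4, 2, 5, 1, 4, 4],
    [2, 5, 5, 0, 4, 3, 5, 0, 3, 3, 4, 4, 3, 3, 2, 5, 5, 2, 2, 1, 4, 2, 5, 1, 4, 4],
    [4, 5, 5, 0, 4, 3, 5, 0, 3, 3, 4, 4, 3, 5, 2, 5, 5, 2, 2, 1, 4, 2, 5, 1, 4, 4],
    [0, 5, 5, 2, 0, 4, 3, 5, 0, 3, 4, 4, 2, 1, 3, 5, 5, 2, 1, 4, 2, 5, 1, 3, 4, 4],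
    [2, 5, 5, 2, 0, 4, 3, 5, 0, 3, 4, 4, 2, 3, 3, 5, 5, 2, 1, 4, 2, 5, 1, 3, 4, 4],
    [4, 5, 5, 2, 0, 4, 3, 5, 0, 3, 4, 4, 2, 5, 3, 5, 5, 2, 1, 4, 2, 5, 1, 3, 4, 4],
    [0, 5, 3, 5, 3, 5, 3, 5, 3, 5, 3, 5, 3, 1, 2, 4, 2, 4, 2, 4, 2, 4, 2, 4, 2, 4],
    [2, 5, 3, 5, 3, 5, 3, 5, 3, 5, 3, 5, 3, 3, 2, 4, 2, 4, 2, 4, 2, 4, 2, 4, 2, 4],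
    [4, 5, 3, 5, 3, 5, 3, 5, 3, 5, 3, 5, 3, 5, 2, 4, 2, 4, 2, 4, 2, 4, 2, 4, 2, 4],
    [0, 5, 3, 5, 0, 5, 2, 5, 3, 5, 0, 5, 2, 1, 3, 4, 1, 4, 2, 4, 3, 4, 1, 4, 2, 4],
    [2, 5, 3, 5, 0, 5, 2, 5, 3, 5, 0, 5, 2, 3, 3, 4, 1, 4, 2, 4, 3, 4, 1, 4, 2, 4],
    [4, 5, 3, 5, 0, 5, 2, 5, 3, 5, 0, 5, 2, 5, 3, 4, 1, 4, 2, 4, 3, 4, 1, 4, 2, 4],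
    [0, 5, 3, 5, 0, 5, 2, 5, 3, 0, 2, 4, 0, 1, 1, 5, 3, 1, 2, 4, 3, 4, 1, 4, 2, 4],
    [2, 5, 3, 5, 0, 5, 2, 5, 3, 0, 2, 4, 0, 3, 1, 5, 3, 1, 2, 4, 3, 4, 1, 4, 2, 4],
    [4, 5, 3, 5, 0, 5, 2, 5, 3, 0, 2, 4, 0, 5, 1, 5, 3, 1, 2, 4, 3, 4, 1, 4, 2, 4],
    [0, 5, 3, 5, 0, 5, 2, 5, 3, 0, 4, 0, 2, 1, 3, 1, 5, 1, 2, 4, 3, 4, 1, 4, 2, 4],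
    [2, 5, 3, 5, 0, 5, 2, 5, 3, 0, 4, 0, 2, 3, 3, 1, 5, 1, 2, 4, 3, 4, 1, 4, 2, 4],
    [4, 5, 3, 5, 0, 5, 2, 5, 3, 0, 4, 0, 2, 5, 3, 1, 5, 1, 2, 4, 3, 4, 1, 4, 2, 4],
    [0, 5, 3, 0, 2, 4, 3, 0, 5, 0, 2, 4, 0, 1, 1, 5, 3, 1, 4, 1, 2, 5, 3, 1, 2, 4],
    [2, 5, 3, 0, 2, 4, 3, 0, 5, 0, 2, 4, 0, 3, 1, 5, 3, 1, 4, 1, 2, 5, 3, 1, 2, 4],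
    [4, 5, 3, 0, 2, 4, 3, 0, 5, 0, 2, 4, 0, 5, 1, 5, 3, 1, 4, 1, 2, 5, 3, 1, 2, 4],
    [0, 5, 3, 0, 2, 4, 0, 5, 3, 0, 2, 4, 0, 1, 1, 5, 3, 1, 2, 4, 1, 5, 3, 1, 2, 4],
    [2, 5, 3, 0, 2, 4, 0, 5, 3, 0, 2, 4, 0, 3, 1, 5, 3, 1, 2, 4, 1, 5, 3, 1, 2, 4],
    [4, 5, 3, 0, 2, 4, 0, 5, 3, 0, 2, 4, 0, 5, 1, 5, 3, 1, 2, 4, 1, 5, 3, 1, 2, 4],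
    [0, 5, 3, 0, 4, 0, 2, 5, 3, 0, 4, 0, 2, 1, 3, 1, 5, 1, 2, 4, 3, 1, 5, 1, 2, 4],
    [2, 5, 3, 0, 4, 0, 2, 5, 3, 0, 4, 0, 2, 3, 3, 1, 5, 1, 2, 4, 3, 1, 5, 1, 2, 4],
    [4, 5, 3, 0, 4, 0, 2, 5, 3, 0, 4, 0, 2, 5, 3, 1, 5, 1, 2, 4, 3, 1, 5, 1, 2, 4],
    [0, 5, 0, 3, 0, 4, 3, 5, 0, 3, 0, 4, 3, 1, 2, 5, 1, 2, 1, 4, 2, 5, 1, 2, 1, 4],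
    [2, 5, 0, 3, 0, 4, 3, 5, 0, 3, 0, 4, 3, 3, 2, 5, 1, 2, 1, 4, 2, 5, 1, 2, 1, 4],
    [4, 5, 0, 3, 0, 4, 3, 5, 0, 3, 0, 4, 3, 5, 2, 5, 1, 2, 1, 4, 2, 5, 1, 2, 1, 4],
    [0, 5, 5, 5, 0, 5, 0, 3, 5, 0, 2, 4, 4, 3, 1, 2, 5, 5, 3, 1, 4, 2, 1, 4, 1, 4, 4, 4],
    [2, 5, 5, 5, 0, 5, 0, 3, 5, 0, 2, 4, 4, 3, 3, 2, 5, 5, 3, 1, 4, 2, 1, 4, 1, 4, 4, 4],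
    [4, 5, 5, 5, 0, 5, 0, 3, 5, 0, 2, 4, 4, 3, 5, 2, 5, 5, 3, 1, 4, 2, 1, 4, 1, 4, 4, 4],
    [0, 5, 5, 3, 5, 3, 0, 5, 3, 5, 3, 5, 2, 0, 1, 1, 3, 4, 2, 4, 2, 4, 1, 2, 4, 2, 4, 4],
    [2, 5, 5, 3, 5, 3, 0, 5, 3, 5, 3, 5, 2, 0, 3, 1, 3, 4, 2, 4, 2, 4, 1, 2, 4, 2, 4, 4],
    [4, 5, 5, 3, 5, 3, 0, 5, 3, 5, 3, 5, 2, 0, 5, 1, 3, 4, 2, 4, 2, 4, 1, 2, 4, 2, 4, 4],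
    [0, 5, 5, 3, 5, 0, 5, 0, 2, 5, 0, 4, 4, 2, 1, 3, 5, 5, 1, 4, 3, 1, 4, 1, 4, 2, 4, 4],
    [2, 5, 5, 3, 5, 0, 5, 0, 2, 5, 0, 4, 4, 2, 3, 3, 5, 5, 1, 4, 3, 1, 4, 1, 4, 2, 4, 4],
    [4, 5, 5, 3, 5, 0, 5, 0, 2, 5, 0, 4, 4, 2, 5, 3, 5, 5, 1, 4, 3, 1, 4, 1, 4, 2, 4, 4],
    [0, 5, 5, 3, 5, 0, 5, 2, 5, 3, 5, 3, 3, 0, 1, 1, 2, 2, 4, 2, 4, 3, 4, 1, 4, 2, 4, 4],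
    [2, 5, 5, 3, 5, 0, 5, 2, 5, 3, 5, 3, 3, 0, 3, 1, 2, 2, 4, 2, 4, 3, 4, 1, 4, 2, 4, 4],
    [4, 5, 5, 3, 5, 0, 5, 2, 5, 3, 5, 3, 3, 0, 5, 1, 2, 2, 4, 2, 4, 3, 4, 1, 4, 2, 4, 4],
    [0, 5, 5, 3, 3, 4, 4, 2, 5, 0, 2, 0, 4, 2, 1, 3, 5, 1, 3, 1, 4, 3, 5, 5, 2, 2, 4, 4],
    [2, 5, 5, 3, 3, 4, 4, 2, 5, 0, 2, 0, 4, 2, 3, 3, 5, 1, 3, 1, 4, 3, 5, 5, 2, 2, 4, 4],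
    [4, 5, 5, 3, 3, 4, 4, 2, 5, 0, 2, 0, 4, 2, 5, 3, 5, 1, 3, 1, 4, 3, 5, 5, 2, 2, 4, 4],
    [0, 5, 5, 3, 0, 3, 3, 4, 0, 5, 3, 5, 2, 0, 1, 1, 3, 4, 2, 4, 1, 5, 2, 2, 1, 2, 4, 4],
    [2, 5, 5, 3, 0, 3, 3, 4, 0, 5, 3, 5, 2, 0, 3, 1, 3, 4, 2, 4, 1, 5, 2, 2, 1, 2, 4, 4],
    [4, 5, 5, 3, 0, 3, 3, 4, 0, 5, 3, 5, 2, 0, 5, 1, 3, 4, 2, 4, 1, 5, 2, 2, 1, 2, 4, 4],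
    [0, 5, 5, 3, 0, 3, 4, 0, 3, 5, 3, 5, 2, 0, 1, 1, 3, 4, 2, 4, 2, 1, 5, 2, 1, 2, 4, 4],
    [2, 5, 5, 3, 0, 3, 4, 0, 3, 5, 3, 5, 2, 0, 3, 1, 3, 4, 2, 4, 2, 1, 5, 2, 1, 2, 4, 4],
    [4, 5, 5, 3, 0, 3, 4, 0, 3, 5, 3, 5, 2, 0, 5, 1, 3, 4, 2, 4, 2, 1, 5, 2, 1, 2, 4, 4],
    [0, 5, 5, 3, 0, 2, 4, 0, 5, 3, 5, 3, 3, 0, 1, 1, 2, 2, 4, 2, 4, 1, 5, 3, 1, 2, 4, 4],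
    [2, 5, 5, 3, 0, 2, 4, 0, 5, 3, 5, 3, 3, 0, 3, 1, 2, 2, 4, 2, 4, 1, 5, 3, 1, 2, 4, 4],
    [4, 5, 5, 3, 0, 2, 4, 0, 5, 3, 5, 3, 3, 0, 5, 1, 2, 2, 4, 2, 4, 1, 5, 3, 1, 2, 4, 4],
    [0, 5, 5, 3, 0, 2, 4, 2, 0, 5, 2, 5, 2, 0, 1, 1, 3, 4, 3, 4, 1, 3, 5, 3, 1, 2, 4, 4],
    [2, 5, 5, 3, 0, 2, 4, 2, 0, 5, 2, 5, 2, 0, 3, 1, 3, 4, 3, 4, 1, 3, 5, 3, 1, 2, 4, 4],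
    [4, 5, 5, 3, 0, 2, 4, 2, 0, 5, 2, 5, 2, 0, 5, 1, 3, 4, 3, 4, 1, 3, 5, 3, 1, 2, 4, 4],
    [0, 5, 5, 3, 0, 4, 3, 3, 5, 0, 4, 4, 3, 3, 1, 2, 2, 5, 5, 1, 4, 2, 2, 5, 1, 2, 4, 4],
    [2, 5, 5, 3, 0, 4, 3, 3, 5, 0, 4, 4, 3, 3, 3, 2, 2, 5, 5, 1, 4, 2, 2, 5, 1, 2, 4, 4],
    [4, 5, 5, 3, 0, 4, 3, 3, 5, 0, 4, 4, 3, 3, 5, 2, 2, 5, 5, 1, 4, 2, 2, 5, 1, 2, 4, 4],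
    [0, 5, 5, 3, 0, 4, 2, 5, 5, 0, 5, 0, 4, 2, 1, 3, 5, 1, 4, 1, 4, 4, 3, 5, 1, 2, 4, 4],
    [2, 5, 5, 3, 0, 4, 2, 5, 5, 0, 5, 0, 4, 2, 3, 3, 5, 1, 4, 1, 4, 4, 3, 5, 1, 2, 4, 4],
    [4, 5, 5, 3, 0, 4, 2, 5, 5, 0, 5, 0, 4, 2, 5, 3, 5, 1, 4, 1, 4, 4, 3, 5, 1, 2, 4, 4],
    [0, 5, 5, 3, 4, 4, 3, 5, 0, 2, 2, 0, 4, 3, 1, 2, 5, 1, 3, 3, 1, 4, 2, 5, 5, 2, 4, 4],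
    [2, 5, 5, 3, 4, 4, 3, 5, 0, 2, 2, 0, 4, 3, 3, 2, 5, 1, 3, 3, 1, 4, 2, 5, 5, 2, 4, 4],
    [4, 5, 5, 3, 4, 4, 3, 5, 0, 2, 2, 0, 4, 3, 5, 2, 5, 1, 3, 3, 1, 4, 2, 5, 5, 2, 4, 4],
    [0, 5, 5, 0, 5, 3, 4, 4, 2, 5, 0, 4, 4, 2, 1, 3, 5, 5, 1, 4, 3, 5, 5, 2, 4, 1, 4, 4],
    [2, 5, 5, 0, 5, 3, 4, 4, 2, 5, 0, 4, 4, 2, 3, 3, 5, 5, 1, 4, 3, 5, 5, 2, 4, 1, 4, 4],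
    [4, 5, 5, 0, 5, 3, 4, 4, 2, 5, 0, 4, 4, 2, 5, 3, 5, 5, 1, 4, 3, 5, 5, 2, 4, 1, 4, 4],
    [0, 5, 5, 0, 5, 2, 0, 4, 3, 5, 5, 0, 4, 3, 1, 2, 5, 1, 4, 4, 2, 5, 1, 3, 4, 1, 4, 4],
    [2, 5, 5, 0, 5, 2, 0, 4, 3, 5, 5, 0, 4, 3, 3, 2, 5, 1, 4, 4, 2, 5, 1, 3, 4, 1, 4, 4],
    [4, 5, 5, 0, 5, 2, 0, 4, 3, 5, 5, 0, 4, 3, 5, 2, 5, 1, 4, 4, 2, 5, 1, 3, 4, 1, 4, 4],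
    [0, 5, 5, 0, 4, 3, 5, 5, 2, 0, 5, 0, 4, 3, 1, 2, 5, 1, 4, 1, 3, 4, 4, 2, 5, 1, 4, 4],
    [2, 5, 5, 0, 4, 3, 5, 5, 2, 0, 5, 0, 4, 3, 3, 2, 5, 1, 4, 1, 3, 4, 4, 2, 5, 1, 4, 4],
    [4, 5, 5, 0, 4, 3, 5, 5, 2, 0, 5, 0, 4, 3, 5, 2, 5, 1, 4, 1, 3, 4, 4, 2, 5, 1, 4, 4],
    [0, 5, 5, 0, 4, 3, 5, 0, 4, 0, 2, 0, 4, 3, 1, 2, 5, 1, 3, 1, 5, 1, 4, 2, 5, 1, 4, 4],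
    [2, 5, 5, 0, 4, 3, 5, 0, 4, 0, 2, 0, 4, 3, 3, 2, 5, 1, 3, 1, 5, 1, 4, 2, 5, 1, 4, 4],
    [4, 5, 5, 0, 4, 3, 5, 0, 4, 0, 2, 0, 4, 3, 5, 2, 5, 1, 3, 1, 5, 1, 4, 2, 5, 1, 4, 4],
    [0, 5, 5, 0, 4, 3, 0, 2, 5, 3, 5, 2, 0, 3, 1, 2, 1, 3, 4, 2, 4, 3, 1, 2, 5, 1, 4, 4],
    [2, 5, 5, 0, 4, 3, 0, 2, 5, 3, 5, 2, 0, 3, 3, 2, 1, 3, 4, 2, 4, 3, 1, 2, 5, 1, 4, 4],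
    [4, 5, 5, 0, 4, 3, 0, 2, 5, 3, 5, 2, 0, 3, 5, 2, 1, 3, 4, 2, 4, 3, 1, 2, 5, 1, 4, 4],
    [0, 5, 5, 2, 0, 4, 3, 5, 0, 3, 4, 4, 3, 3, 1, 2, 2, 5, 5, 2, 1, 4, 2, 5, 1, 3, 4, 4],
    [2, 5, 5, 2, 0, 4, 3, 5, 0, 3, 4, 4, 3, 3, 3, 2, 2, 5, 5, 2, 1, 4, 2, 5, 1, 3, 4, 4],
    [4, 5, 5, 2, 0, 4, 3, 5, 0, 3, 4, 4, 3, 3, 5, 2, 2, 5, 5, 2, 1, 4, 2, 5, 1, 3, 4, 4],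
    [0, 5, 5, 2, 0, 4, 3, 3, 5, 0, 3, 4, 4, 3, 1, 2, 5, 5, 2, 1, 4, 2, 2, 5, 1, 3, 4, 4],
    [2, 5, 5, 2, 0, 4, 3, 3, 5, 0, 3, 4, 4, 3, 3, 2, 5, 5, 2, 1, 4, 2, 2, 5, 1, 3, 4, 4],
    [4, 5, 5, 2, 0, 4, 3, 3, 5, 0, 3, 4, 4, 3, 5, 2, 5, 5, 2, 1, 4, 2, 2, 5, 1, 3, 4, 4],
    [0, 5, 3, 5, 3, 5, 3, 5, 3, 5, 3, 5, 2, 2, 1, 3, 3, 4, 2, 4, 2, 4, 2, 4, 2, 4, 2, 4],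
    [2, 5, 3, 5, 3, 5, 3, 5, 3, 5, 3, 5, 2, 2, 3, 3, 3, 4, 2, 4, 2, 4, 2, 4, 2, 4, 2, 4],
    [4, 5, 3, 5, 3, 5, 3, 5, 3, 5, 3, 5, 2, 2, 5, 3, 3, 4, 2, 4, 2, 4, 2, 4, 2, 4, 2, 4],
    [0, 5, 3, 5, 3, 5, 0, 5, 2, 5, 3, 5, 3, 0, 1, 1, 2, 4, 2, 4, 3, 4, 1, 4, 2, 4, 2, 4],
    [2, 5, 3, 5, 3, 5, 0, 5, 2, 5, 3, 5, 3, 0, 3, 1, 2, 4, 2, 4, 3, 4, 1, 4, 2, 4, 2, 4],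
    [4, 5, 3, 5, 3, 5, 0, 5, 2, 5, 3, 5, 3, 0, 5, 1, 2, 4, 2, 4, 3, 4, 1, 4, 2, 4, 2, 4],
    [0, 5, 3, 5, 3, 0, 5, 3, 5, 3, 0, 2, 4, 0, 1, 1, 5, 3, 1, 2, 4, 2, 4, 1, 2, 4, 2, 4],
    [2, 5, 3, 5, 3, 0, 5, 3, 5, 3, 0, 2, 4, 0, 3, 1, 5, 3, 1, 2, 4, 2, 4, 1, 2, 4, 2, 4],
    [4, 5, 3, 5, 3, 0, 5, 3, 5, 3, 0, 2, 4, 0, 5, 1, 5, 3, 1, 2, 4, 2, 4, 1, 2, 4, 2, 4],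
    [0, 5, 3, 5, 3, 0, 5, 3, 5, 3, 0, 4, 0, 2, 1, 3, 1, 5, 1, 2, 4, 2, 4, 1, 2, 4, 2, 4],
    [2, 5, 3, 5, 3, 0, 5, 3, 5, 3, 0, 4, 0, 2, 3, 3, 1, 5, 1, 2, 4, 2, 4, 1, 2, 4, 2, 4],
    [4, 5, 3, 5, 3, 0, 5, 3, 5, 3, 0, 4, 0, 2, 5, 3, 1, 5, 1, 2, 4, 2, 4, 1, 2, 4, 2, 4],
    [0, 5, 3, 5, 0, 5, 2, 5, 3, 0, 3, 3, 4, 0, 1, 1, 5, 2, 2, 1, 2, 4, 3, 4, 1, 4, 2, 4],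
    [2, 5, 3, 5, 0, 5, 2, 5, 3, 0, 3, 3, 4, 0, 3, 1, 5, 2, 2, 1, 2, 4, 3, 4, 1, 4, 2, 4],
    [4, 5, 3, 5, 0, 5, 2, 5, 3, 0, 3, 3, 4, 0, 5, 1, 5, 2, 2, 1, 2, 4, 3, 4, 1, 4, 2, 4],
    [0, 5, 3, 5, 0, 5, 2, 5, 3, 0, 3, 4, 0, 3, 1, 2, 1, 5, 2, 1, 2, 4, 3, 4, 1, 4, 2, 4],
    [2, 5, 3, 5, 0, 5, 2, 5, 3, 0, 3, 4, 0, 3, 3, 2, 1, 5, 2, 1, 2, 4, 3, 4, 1, 4, 2, 4],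
    [4, 5, 3, 5, 0, 5, 2, 5, 3, 0, 3, 4, 0, 3, 5, 2, 1, 5, 2, 1, 2, 4, 3, 4, 1, 4, 2, 4],
    [0, 5, 3, 0, 3, 3, 4, 0, 5, 3, 0, 2, 4, 0, 1, 1, 5, 3, 1, 2, 4, 1, 5, 2, 2, 1, 2, 4],
    [2, 5, 3, 0, 3, 3, 4, 0, 5, 3, 0, 2, 4, 0, 3, 1, 5, 3, 1, 2, 4, 1, 5, 2, 2, 1, 2, 4],
    [4, 5, 3, 0, 3, 3, 4, 0, 5, 3, 0, 2, 4, 0, 5, 1, 5, 3, 1, 2, 4, 1, 5, 2, 2, 1, 2, 4],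
    [0, 5, 3, 0, 3, 3, 4, 0, 5, 3, 0, 4, 0, 2, 1, 3, 1, 5, 1, 2, 4, 1, 5, 2, 2, 1, 2, 4],
    [2, 5, 3, 0, 3, 3, 4, 0, 5, 3, 0, 4, 0, 2, 3, 3, 1, 5, 1, 2, 4, 1, 5, 2, 2, 1, 2, 4],
    [4, 5, 3, 0, 3, 3, 4, 0, 5, 3, 0, 4, 0, 2, 5, 3, 1, 5, 1, 2, 4, 1, 5, 2, 2, 1, 2, 4],
    [0, 5, 3, 0, 3, 4, 0, 3, 5, 3, 0, 2, 4, 0, 1, 1, 5, 3, 1, 2, 4, 2, 1, 5, 2, 1, 2, 4],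
    [2, 5, 3, 0, 3, 4, 0, 3, 5, 3, 0, 2, 4, 0, 3, 1, 5, 3, 1, 2, 4, 2, 1, 5, 2, 1, 2, 4],
    [4, 5, 3, 0, 3, 4, 0, 3, 5, 3, 0, 2, 4, 0, 5, 1, 5, 3, 1, 2, 4, 2, 1, 5, 2, 1, 2, 4],
    [0, 5, 3, 0, 3, 4, 0, 3, 5, 3, 0, 4, 0, 2, 1, 3, 1, 5, 1, 2, 4, 2, 1, 5, 2, 1, 2, 4],
    [2, 5, 3, 0, 3, 4, 0, 3, 5, 3, 0, 4, 0, 2, 3, 3, 1, 5, 1, 2, 4, 2, 1, 5, 2, 1, 2, 4],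
    [4, 5, 3, 0, 3, 4, 0, 3, 5, 3, 0, 4, 0, 2, 5, 3, 1, 5, 1, 2, 4, 2, 1, 5, 2, 1, 2, 4],
    [0, 5, 3, 0, 2, 4, 3, 0, 5, 0, 3, 4, 0, 3, 1, 2, 1, 5, 2, 1, 4, 1, 2, 5, 3, 1, 2, 4],
    [2, 5, 3, 0, 2, 4, 3, 0, 5, 0, 3, 4, 0, 3, 3, 2, 1, 5, 2, 1, 4, 1, 2, 5, 3, 1, 2, 4],
    [4, 5, 3, 0, 2, 4, 3, 0, 5, 0, 3, 4, 0, 3, 5, 2, 1, 5, 2, 1, 4, 1, 2, 5, 3, 1, 2, 4],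
    [0, 5, 3, 0, 2, 4, 0, 5, 3, 0, 4, 0, 3, 3, 1, 2, 2, 1, 5, 1, 2, 4, 1, 5, 3, 1, 2, 4],
    [2, 5, 3, 0, 2, 4, 0, 5, 3, 0, 4, 0, 3, 3, 3, 2, 2, 1, 5, 1, 2, 4, 1, 5, 3, 1, 2, 4],
    [4, 5, 3, 0, 2, 4, 0, 5, 3, 0, 4, 0, 3, 3, 5, 2, 2, 1, 5, 1, 2, 4, 1, 5, 3, 1, 2, 4],
    [0, 5, 0, 3, 0, 4, 3, 5, 0, 3, 0, 4, 2, 2, 1, 3, 3, 5, 1, 2, 1, 4, 2, 5, 1, 2, 1, 4],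
    [2, 5, 0, 3, 0, 4, 3, 5, 0, 3, 0, 4, 2, 2, 3, 3, 3, 5, 1, 2, 1, 4, 2, 5, 1, 2, 1, 4],
    [4, 5, 0, 3, 0, 4, 3, 5, 0, 3, 0, 4, 2, 2, 5, 3, 3, 5, 1, 2, 1, 4, 2, 5, 1, 2, 1, 4],
    [0, 5, 5, 5, 5, 5, 5, 5, 5, 5, 0, 3, 0, 5, 2, 1, 3, 4, 1, 2, 1, 4, 4, 4, 4, 4, 4, 4, 4, 4],
    [2, 5, 5, 5, 5, 5, 5, 5, 5, 5, 0, 3, 0, 5, 2, 3, 3, 4, 1, 2, 1, 4, 4, 4, 4, 4, 4, 4, 4, 4],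
    [4, 5, 5, 5, 5, 5, 5, 5, 5, 5, 0, 3, 0, 5, 2, 5, 3, 4, 1, 2, 1, 4, 4, 4, 4, 4, 4, 4, 4, 4],
    [0, 5, 5, 5, 5, 5, 5, 5, 5, 5, 0, 2, 0, 5, 3, 1, 2, 4, 1, 3, 1, 4, 4, 4, 4, 4, 4, 4, 4, 4],
    [2, 5, 5, 5, 5, 5, 5, 5, 5, 5, 0, 2, 0, 5, 3, 3, 2, 4, 1, 3, 1, 4, 4, 4, 4, 4, 4, 4, 4, 4],
    [4, 5, 5, 5, 5, 5, 5, 5, 5, 5, 0, 2, 0, 5, 3, 5, 2, 4, 1, 3, 1, 4, 4, 4, 4, 4, 4, 4, 4, 4],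
    [0, 5, 5, 5, 5, 5, 3, 0, 5, 2, 5, 5, 5, 5, 0, 1, 1, 4, 4, 4, 4, 3, 4, 1, 2, 4, 4, 4, 4, 4],
    [2, 5, 5, 5, 5, 5, 3, 0, 5, 2, 5, 5, 5, 5, 0, 3, 1, 4, 4, 4, 4, 3, 4, 1, 2, 4, 4, 4, 4, 4],
    [4, 5, 5, 5, 5, 5, 3, 0, 5, 2, 5, 5, 5, 5, 0, 5, 1, 4, 4, 4, 4, 3, 4, 1, 2, 4, 4, 4, 4, 4],
    [0, 5, 5, 5, 5, 5, 0, 4, 4, 4, 4, 3, 4, 0, 2, 1, 3, 1, 5, 2, 5, 5, 5, 5, 1, 4, 4, 4, 4, 4],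
    [2, 5, 5, 5, 5, 5, 0, 4, 4, 4, 4, 3, 4, 0, 2, 3, 3, 1, 5, 2, 5, 5, 5, 5, 1, 4, 4, 4, 4, 4],
    [4, 5, 5, 5, 5, 5, 0, 4, 4, 4, 4, 3, 4, 0, 2, 5, 3, 1, 5, 2, 5, 5, 5, 5, 1, 4, 4, 4, 4, 4],
    [0, 5, 5, 5, 5, 5, 0, 4, 4, 4, 4, 2, 4, 0, 3, 1, 2, 1, 5, 3, 5, 5, 5, 5, 1, 4, 4, 4, 4, 4],
    [2, 5, 5, 5, 5, 5, 0, 4, 4, 4, 4, 2, 4, 0, 3, 3, 2, 1, 5, 3, 5, 5, 5, 5, 1, 4, 4, 4, 4, 4],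
    [4, 5, 5, 5, 5, 5, 0, 4, 4, 4, 4, 2, 4, 0, 3, 5, 2, 1, 5, 3, 5, 5, 5, 5, 1, 4, 4, 4, 4, 4],
    [0, 5, 5, 5, 5, 5, 2, 0, 5, 3, 5, 5, 5, 5, 0, 1, 1, 4, 4, 4, 4, 2, 4, 1, 3, 4, 4, 4, 4, 4],
    [2, 5, 5, 5, 5, 5, 2, 0, 5, 3, 5, 5, 5, 5, 0, 3, 1, 4, 4, 4, 4, 2, 4, 1, 3, 4, 4, 4, 4, 4],
    [4, 5, 5, 5, 5, 5, 2, 0, 5, 3, 5, 5, 5, 5, 0, 5, 1, 4, 4, 4, 4, 2, 4, 1, 3, 4, 4, 4, 4, 4],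
    [0, 5, 5, 5, 5, 3, 0, 5, 2, 5, 5, 5, 0, 4, 0, 1, 1, 5, 1, 4, 4, 4, 3, 4, 1, 2, 4, 4, 4, 4],
    [2, 5, 5, 5, 5, 3, 0, 5, 2, 5, 5, 5, 0, 4, 0, 3, 1, 5, 1, 4, 4, 4, 3, 4, 1, 2, 4, 4, 4, 4],
    [4, 5, 5, 5, 5, 3, 0, 5, 2, 5, 5, 5, 0, 4, 0, 5, 1, 5, 1, 4, 4, 4, 3, 4, 1, 2, 4, 4, 4, 4],
    [0, 5, 5, 5, 5, 0, 5, 5, 5, 5, 0, 3, 4, 0, 2, 1, 3, 1, 5, 2, 1, 4, 4, 4, 4, 1, 4, 4, 4, 4],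
    [2, 5, 5, 5, 5, 0, 5, 5, 5, 5, 0, 3, 4, 0, 2, 3, 3, 1, 5, 2, 1, 4, 4, 4, 4, 1, 4, 4, 4, 4],
    [4, 5, 5, 5, 5, 0, 5, 5, 5, 5, 0, 3, 4, 0, 2, 5, 3, 1, 5, 2, 1, 4, 4, 4, 4, 1, 4, 4, 4, 4],
    [0, 5, 5, 5, 5, 0, 5, 5, 5, 5, 0, 2, 4, 0, 3, 1, 2, 1, 5, 3, 1, 4, 4, 4, 4, 1, 4, 4, 4, 4],
    [2, 5, 5, 5, 5, 0, 5, 5, 5, 5, 0, 2, 4, 0, 3, 3, 2, 1, 5, 3, 1, 4, 4, 4, 4, 1, 4, 4, 4, 4],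
    [4, 5, 5, 5, 5, 0, 5, 5, 5, 5, 0, 2, 4, 0, 3, 5, 2, 1, 5, 3, 1, 4, 4, 4, 4, 1, 4, 4, 4, 4],
    [0, 5, 5, 5, 5, 0, 4, 3, 0, 5, 2, 5, 5, 5, 0, 1, 1, 4, 4, 4, 3, 4, 1, 2, 5, 1, 4, 4, 4, 4],
    [2, 5, 5, 5, 5, 0, 4, 3, 0, 5, 2, 5, 5, 5, 0, 3, 1, 4, 4, 4, 3, 4, 1, 2, 5, 1, 4, 4, 4, 4],
    [4, 5, 5, 5, 5, 0, 4, 3, 0, 5, 2, 5, 5, 5, 0, 5, 1, 4, 4, 4, 3, 4, 1, 2, 5, 1, 4, 4, 4, 4],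
    [0, 5, 5, 5, 5, 0, 4, 2, 0, 5, 3, 5, 5, 5, 0, 1, 1, 4, 4, 4, 2, 4, 1, 3, 5, 1, 4, 4, 4, 4],
    [2, 5, 5, 5, 5, 0, 4, 2, 0, 5, 3, 5, 5, 5, 0, 3, 1, 4, 4, 4, 2, 4, 1, 3, 5, 1, 4, 4, 4, 4],
    [4, 5, 5, 5, 5, 0, 4, 2, 0, 5, 3, 5, 5, 5, 0, 5, 1, 4, 4, 4, 2, 4, 1, 3, 5, 1, 4, 4, 4, 4],
    [0, 5, 5, 5, 5, 2, 0, 5, 3, 5, 5, 5, 0, 4, 0, 1, 1, 5, 1, 4, 4, 4, 2, 4, 1, 3, 4, 4, 4, 4],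
    [2, 5, 5, 5, 5, 2, 0, 5, 3, 5, 5, 5, 0, 4, 0, 3, 1, 5, 1, 4, 4, 4, 2, 4, 1, 3, 4, 4, 4, 4],
    [4, 5, 5, 5, 5, 2, 0, 5, 3, 5, 5, 5, 0, 4, 0, 5, 1, 5, 1, 4, 4, 4, 2, 4, 1, 3, 4, 4, 4, 4],
    [0, 5, 5, 5, 0, 5, 0, 3, 5, 0, 3, 3, 4, 4, 3, 1, 2, 5, 5, 2, 2, 1, 4, 2, 1, 4, 1, 4, 4, 4],
    [2, 5, 5, 5, 0, 5, 0, 3, 5, 0, 3, 3, 4, 4, 3, 3, 2, 5, 5, 2, 2, 1, 4, 2, 1, 4, 1, 4, 4, 4],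
    [4, 5, 5, 5, 0, 5, 0, 3, 5, 0, 3, 3, 4, 4, 3, 5, 2, 5, 5, 2, 2, 1, 4, 2, 1, 4, 1, 4, 4, 4],
    [0, 5, 5, 5, 0, 3, 4, 0, 2, 5, 5, 5, 0, 4, 0, 1, 1, 5, 1, 4, 4, 4, 3, 1, 5, 2, 1, 4, 4, 4],
    [2, 5, 5, 5, 0, 3, 4, 0, 2, 5, 5, 5, 0, 4, 0, 3, 1, 5, 1, 4, 4, 4, 3, 1, 5, 2, 1, 4, 4, 4],
    [4, 5, 5, 5, 0, 3, 4, 0, 2, 5, 5, 5, 0, 4, 0, 5, 1, 5, 1, 4, 4, 4, 3, 1, 5, 2, 1, 4, 4, 4],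
    [0, 5, 5, 5, 0, 2, 4, 0, 3, 5, 5, 5, 0, 4, 0, 1, 1, 5, 1, 4, 4, 4, 2, 1, 5, 3, 1, 4, 4, 4],
    [2, 5, 5, 5, 0, 2, 4, 0, 3, 5, 5, 5, 0, 4, 0, 3, 1, 5, 1, 4, 4, 4, 2, 1, 5, 3, 1, 4, 4, 4],
    [4, 5, 5, 5, 0, 2, 4, 0, 3, 5, 5, 5, 0, 4, 0, 5, 1, 5, 1, 4, 4, 4, 2, 1, 5, 3, 1, 4, 4, 4],
    [0, 5, 5, 5, 0, 4, 3, 0, 5, 2, 5, 5, 0, 4, 0, 1, 1, 5, 1, 4, 4, 3, 4, 1, 2, 5, 1, 4, 4, 4],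
    [2, 5, 5, 5, 0, 4, 3, 0, 5, 2, 5, 5, 0, 4, 0, 3, 1, 5, 1, 4, 4, 3, 4, 1, 2, 5, 1, 4, 4, 4],
    [4, 5, 5, 5, 0, 4, 3, 0, 5, 2, 5, 5, 0, 4, 0, 5, 1, 5, 1, 4, 4, 3, 4, 1, 2, 5, 1, 4, 4, 4],
    [0, 5, 5, 5, 0, 4, 0, 5, 5, 0, 4, 0, 4, 4, 0, 1, 1, 5, 5, 1, 5, 1, 4, 4, 1, 5, 1, 4, 4, 4],
    [2, 5, 5, 5, 0, 4, 0, 5, 5, 0, 4, 0, 4, 4, 0, 3, 1, 5, 5, 1, 5, 1, 4, 4, 1, 5, 1, 4, 4, 4],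
    [4, 5, 5, 5, 0, 4, 0, 5, 5, 0, 4, 0, 4, 4, 0, 5, 1, 5, 5, 1, 5, 1, 4, 4, 1, 5, 1, 4, 4, 4],
    [0, 5, 5, 5, 0, 4, 2, 0, 5, 3, 5, 5, 0, 4, 0, 1, 1, 5, 1, 4, 4, 2, 4, 1, 3, 5, 1, 4, 4, 4],
    [2, 5, 5, 5, 0, 4, 2, 0, 5, 3, 5, 5, 0, 4, 0, 3, 1, 5, 1, 4, 4, 2, 4, 1, 3, 5, 1, 4, 4, 4],
    [4, 5, 5, 5, 0, 4, 2, 0, 5, 3, 5, 5, 0, 4, 0, 5, 1, 5, 1, 4, 4, 2, 4, 1, 3, 5, 1, 4, 4, 4],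
    [0, 5, 5, 5, 0, 4, 4, 0, 4, 0, 5, 5, 0, 4, 0, 1, 1, 5, 1, 4, 4, 1, 5, 1, 5, 5, 1, 4, 4, 4],
    [2, 5, 5, 5, 0, 4, 4, 0, 4, 0, 5, 5, 0, 4, 0, 3, 1, 5, 1, 4, 4, 1, 5, 1, 5, 5, 1, 4, 4, 4],
    [4, 5, 5, 5, 0, 4, 4, 0, 4, 0, 5, 5, 0, 4, 0, 5, 1, 5, 1, 4, 4, 1, 5, 1, 5, 5, 1, 4, 4, 4],
    [0, 5, 5, 3, 5, 3, 5, 3, 5, 3, 5, 3, 0, 3, 0, 1, 1, 2, 1, 2, 4, 2, 4, 2, 4, 2, 4, 2, 4, 4],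
    [2, 5, 5, 3, 5, 3, 5, 3, 5, 3, 5, 3, 0, 3, 0, 3, 1, 2, 1, 2, 4, 2, 4, 2, 4, 2, 4, 2, 4, 4],
    [4, 5, 5, 3, 5, 3, 5, 3, 5, 3, 5, 3, 0, 3, 0, 5, 1, 2, 1, 2, 4, 2, 4, 2, 4, 2, 4, 2, 4, 4],
    [0, 5, 5, 3, 5, 3, 0, 2, 4, 2, 4, 2, 4, 3, 0, 1, 1, 2, 5, 3, 5, 3, 5, 3, 1, 2, 4, 2, 4, 4],
    [2, 5, 5, 3, 5, 3, 0, 2, 4, 2, 4, 2, 4, 3, 0, 3, 1, 2, 5, 3, 5, 3, 5, 3, 1, 2, 4, 2, 4, 4],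
    [4, 5, 5, 3, 5, 3, 0, 2, 4, 2, 4, 2, 4, 3, 0, 5, 1, 2, 5, 3, 5, 3, 5, 3, 1, 2, 4, 2, 4, 4],
    [0, 5, 5, 3, 5, 0, 5, 0, 2, 5, 0, 4, 4, 3, 3, 1, 2, 2, 5, 5, 1, 4, 3, 1, 4, 1, 4, 2, 4, 4],
    [2, 5, 5, 3, 5, 0, 5, 0, 2, 5, 0, 4, 4, 3, 3, 3, 2, 2, 5, 5, 1, 4, 3, 1, 4, 1, 4, 2, 4, 4],
    [4, 5, 5, 3, 5, 0, 5, 0, 2, 5, 0, 4, 4, 3, 3, 5, 2, 2, 5, 5, 1, 4, 3, 1, 4, 1, 4, 2, 4, 4],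
    [0, 5, 5, 3, 3, 4, 4, 2, 5, 0, 3, 3, 0, 4, 2, 1, 3, 5, 1, 2, 2, 1, 4, 3, 5, 5, 2, 2, 4, 4],
    [2, 5, 5, 3, 3, 4, 4, 2, 5, 0, 3, 3, 0, 4, 2, 3, 3, 5, 1, 2, 2, 1, 4, 3, 5, 5, 2, 2, 4, 4],
    [4, 5, 5, 3, 3, 4, 4, 2, 5, 0, 3, 3, 0, 4, 2, 5, 3, 5, 1, 2, 2, 1, 4, 3, 5, 5, 2, 2, 4, 4],
    [0, 5, 5, 3, 0, 5, 3, 0, 4, 3, 5, 5, 0, 4, 3, 1, 2, 5, 1, 4, 4, 2, 5, 1, 2, 4, 1, 2, 4, 4],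
    [2, 5, 5, 3, 0, 5, 3, 0, 4, 3, 5, 5, 0, 4, 3, 3, 2, 5, 1, 4, 4, 2, 5, 1, 2, 4, 1, 2, 4, 4],
    [4, 5, 5, 3, 0, 5, 3, 0, 4, 3, 5, 5, 0, 4, 3, 5, 2, 5, 1, 4, 4, 2, 5, 1, 2, 4, 1, 2, 4, 4],
    [0, 5, 5, 3, 0, 5, 0, 4, 2, 5, 5, 2, 0, 4, 3, 1, 2, 5, 1, 3, 4, 4, 3, 5, 1, 4, 1, 2, 4, 4],
    [2, 5, 5, 3, 0, 5, 0, 4, 2, 5, 5, 2, 0, 4, 3, 3, 2, 5, 1, 3, 4, 4, 3, 5, 1, 4, 1, 2, 4, 4],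
    [4, 5, 5, 3, 0, 5, 0, 4, 2, 5, 5, 2, 0, 4, 3, 5, 2, 5, 1, 3, 4, 4, 3, 5, 1, 4, 1, 2, 4, 4],
    [0, 5, 5, 3, 4, 4, 3, 5, 0, 3, 5, 0, 5, 0, 3, 1, 2, 1, 4, 1, 4, 2, 1, 4, 2, 5, 5, 2, 4, 4],
    [2, 5, 5, 3, 4, 4, 3, 5, 0, 3, 5, 0, 5, 0, 3, 3, 2, 1, 4, 1, 4, 2, 1, 4, 2, 5, 5, 2, 4, 4],
    [4, 5, 5, 3, 4, 4, 3, 5, 0, 3, 5, 0, 5, 0, 3, 5, 2, 1, 4, 1, 4, 2, 1, 4, 2, 5, 5, 2, 4, 4],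
    [0, 5, 5, 3, 4, 4, 3, 0, 4, 0, 4, 3, 0, 4, 3, 1, 2, 5, 1, 2, 5, 1, 5, 1, 2, 5, 5, 2, 4, 4],
    [2, 5, 5, 3, 4, 4, 3, 0, 4, 0, 4, 3, 0, 4, 3, 3, 2, 5, 1, 2, 5, 1, 5, 1, 2, 5, 5, 2, 4, 4],
    [4, 5, 5, 3, 4, 4, 3, 0, 4, 0, 4, 3, 0, 4, 3, 5, 2, 5, 1, 2, 5, 1, 5, 1, 2, 5, 5, 2, 4, 4],
    [0, 5, 5, 0, 4, 3, 0, 3, 3, 5, 3, 5, 2, 0, 3, 1, 2, 1, 3, 4, 2, 4, 2, 2, 1, 2, 5, 1, 4, 4],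
    [2, 5, 5, 0, 4, 3, 0, 3, 3, 5, 3, 5, 2, 0, 3, 3, 2, 1, 3, 4, 2, 4, 2, 2, 1, 2, 5, 1, 4, 4],
    [4, 5, 5, 0, 4, 3, 0, 3, 3, 5, 3, 5, 2, 0, 3, 5, 2, 1, 3, 4, 2, 4, 2, 2, 1, 2, 5, 1, 4, 4],
    [0, 5, 5, 0, 4, 3, 0, 2, 5, 3, 5, 3, 3, 0, 3, 1, 2, 1, 2, 2, 4, 2, 4, 3, 1, 2, 5, 1, 4, 4],
    [2, 5, 5, 0, 4, 3, 0, 2, 5, 3, 5, 3, 3, 0, 3, 3, 2, 1, 2, 2, 4, 2, 4, 3, 1, 2, 5, 1, 4, 4],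
    [4, 5, 5, 0, 4, 3, 0, 2, 5, 3, 5, 3, 3, 0, 3, 5, 2, 1, 2, 2, 4, 2, 4, 3, 1, 2, 5, 1, 4, 4],
    [0, 5, 5, 0, 4, 3, 0, 2, 5, 3, 5, 2, 0, 2, 2, 1, 3, 3, 1, 3, 4, 2, 4, 3, 1, 2, 5, 1, 4, 4],
    [2, 5, 5, 0, 4, 3, 0, 2, 5, 3, 5, 2, 0, 2, 2, 3, 3, 3, 1, 3, 4, 2, 4, 3, 1, 2, 5, 1, 4, 4],
    [4, 5, 5, 0, 4, 3, 0, 2, 5, 3, 5, 2, 0, 2, 2, 5, 3, 3, 1, 3, 4, 2, 4, 3, 1, 2, 5, 1, 4, 4],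
    [0, 5, 5, 0, 4, 3, 0, 2, 5, 2, 2, 5, 2, 0, 3, 1, 2, 1, 3, 4, 3, 3, 4, 3, 1, 2, 5, 1, 4, 4],
    [2, 5, 5, 0, 4, 3, 0, 2, 5, 2, 2, 5, 2, 0, 3, 3, 2, 1, 3, 4, 3, 3, 4, 3, 1, 2, 5, 1, 4, 4],
    [4, 5, 5, 0, 4, 3, 0, 2, 5, 2, 2, 5, 2, 0, 3, 5, 2, 1, 3, 4, 3, 3, 4, 3, 1, 2, 5, 1, 4, 4],
    [0, 5, 5, 2, 5, 0, 5, 0, 3, 5, 0, 3, 4, 4, 2, 1, 3, 5, 5, 2, 1, 4, 2, 1, 4, 1, 4, 3, 4, 4],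
    [2, 5, 5, 2, 5, 0, 5, 0, 3, 5, 0, 3, 4, 4, 2, 3, 3, 5, 5, 2, 1, 4, 2, 1, 4, 1, 4, 3, 4, 4],
    [4, 5, 5, 2, 5, 0, 5, 0, 3, 5, 0, 3, 4, 4, 2, 5, 3, 5, 5, 2, 1, 4, 2, 1, 4, 1, 4, 3, 4, 4],
    [0, 5, 5, 2, 5, 0, 5, 0, 2, 5, 0, 3, 4, 4, 3, 1, 2, 5, 5, 2, 1, 4, 3, 1, 4, 1, 4, 3, 4, 4],
    [2, 5, 5, 2, 5, 0, 5, 0, 2, 5, 0, 3, 4, 4, 3, 3, 2, 5, 5, 2, 1, 4, 3, 1, 4, 1, 4, 3, 4, 4],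
    [4, 5, 5, 2, 5, 0, 5, 0, 2, 5, 0, 3, 4, 4, 3, 5, 2, 5, 5, 2, 1, 4, 3, 1, 4, 1, 4, 3, 4, 4],
    [0, 5, 5, 2, 0, 4, 3, 5, 0, 4, 0, 3, 0, 4, 2, 1, 3, 5, 1, 2, 1, 5, 1, 4, 2, 5, 1, 3, 4, 4],
    [2, 5, 5, 2, 0, 4, 3, 5, 0, 4, 0, 3, 0, 4, 2, 3, 3, 5, 1, 2, 1, 5, 1, 4, 2, 5, 1, 3, 4, 4],
    [4, 5, 5, 2, 0, 4, 3, 5, 0, 4, 0, 3, 0, 4, 2, 5, 3, 5, 1, 2, 1, 5, 1, 4, 2, 5, 1, 3, 4, 4],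
    [0, 5, 3, 5, 3, 5, 3, 0, 2, 4, 2, 4, 2, 4, 0, 1, 1, 5, 3, 5, 3, 5, 3, 1, 2, 4, 2, 4, 2, 4],
    [2, 5, 3, 5, 3, 5, 3, 0, 2, 4, 2, 4, 2, 4, 0, 3, 1, 5, 3, 5, 3, 5, 3, 1, 2, 4, 2, 4, 2, 4],
    [4, 5, 3, 5, 3, 5, 3, 0, 2, 4, 2, 4, 2, 4, 0, 5, 1, 5, 3, 5, 3, 5, 3, 1, 2, 4, 2, 4, 2, 4],
    [0, 5, 3, 5, 3, 5, 2, 2, 5, 3, 5, 3, 5, 2, 2, 1, 3, 3, 4, 2, 4, 2, 4, 3, 3, 4, 2, 4, 2, 4],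
    [2, 5, 3, 5, 3, 5, 2, 2, 5, 3, 5, 3, 5, 2, 2, 3, 3, 3, 4, 2, 4, 2, 4, 3, 3, 4, 2, 4, 2, 4],
    [4, 5, 3, 5, 3, 5, 2, 2, 5, 3, 5, 3, 5, 2, 2, 5, 3, 3, 4, 2, 4, 2, 4, 3, 3, 4, 2, 4, 2, 4],
    [0, 5, 3, 5, 3, 0, 5, 3, 5, 3, 0, 3, 3, 4, 0, 1, 1, 5, 2, 2, 1, 2, 4, 2, 4, 1, 2, 4, 2, 4],
    [2, 5, 3, 5, 3, 0, 5, 3, 5, 3, 0, 3, 3, 4, 0, 3, 1, 5, 2, 2, 1, 2, 4, 2, 4, 1, 2, 4, 2, 4],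
    [4, 5, 3, 5, 3, 0, 5, 3, 5, 3, 0, 3, 3, 4, 0, 5, 1, 5, 2, 2, 1, 2, 4, 2, 4, 1, 2, 4, 2, 4],
    [0, 5, 3, 5, 3, 0, 5, 3, 5, 3, 0, 3, 4, 0, 3, 1, 2, 1, 5, 2, 1, 2, 4, 2, 4, 1, 2, 4, 2, 4],
    [2, 5, 3, 5, 3, 0, 5, 3, 5, 3, 0, 3, 4, 0, 3, 3, 2, 1, 5, 2, 1, 2, 4, 2, 4, 1, 2, 4, 2, 4],
    [4, 5, 3, 5, 3, 0, 5, 3, 5, 3, 0, 3, 4, 0, 3, 5, 2, 1, 5, 2, 1, 2, 4, 2, 4, 1, 2, 4, 2, 4],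
    [0, 5, 3, 0, 3, 3, 4, 0, 5, 3, 0, 3, 3, 4, 0, 1, 1, 5, 2, 2, 1, 2, 4, 1, 5, 2, 2, 1, 2, 4],
    [2, 5, 3, 0, 3, 3, 4, 0, 5, 3, 0, 3, 3, 4, 0, 3, 1, 5, 2, 2, 1, 2, 4, 1, 5, 2, 2, 1, 2, 4],
    [4, 5, 3, 0, 3, 3, 4, 0, 5, 3, 0, 3, 3, 4, 0, 5, 1, 5, 2, 2, 1, 2, 4, 1, 5, 2, 2, 1, 2, 4],
    [0, 5, 3, 0, 3, 4, 0, 3, 5, 3, 0, 3, 4, 0, 3, 1, 2, 1, 5, 2, 1, 2, 4, 2, 1, 5, 2, 1, 2, 4],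
    [2, 5, 3, 0, 3, 4, 0, 3, 5, 3, 0, 3, 4, 0, 3, 3, 2, 1, 5, 2, 1, 2, 4, 2, 1, 5, 2, 1, 2, 4],
    [4, 5, 3, 0, 3, 4, 0, 3, 5, 3, 0, 3, 4, 0, 3, 5, 2, 1, 5, 2, 1, 2, 4, 2, 1, 5, 2, 1, 2, 4],
    [0, 5, 3, 0, 3, 4, 0, 3, 5, 3, 0, 4, 0, 3, 3, 1, 2, 2, 1, 5, 1, 2, 4, 2, 1, 5, 2, 1, 2, 4],
    [2, 5, 3, 0, 3, 4, 0, 3, 5, 3, 0, 4, 0, 3, 3, 3, 2, 2, 1, 5, 1, 2, 4, 2, 1, 5, 2, 1, 2, 4],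
    [4, 5, 3, 0, 3, 4, 0, 3, 5, 3, 0, 4, 0, 3, 3, 5, 2, 2, 1, 5, 1, 2, 4, 2, 1, 5, 2, 1, 2, 4],
    [0, 5, 3, 0, 2, 4, 2, 0, 5, 2, 0, 3, 4, 0, 3, 1, 2, 1, 5, 2, 1, 3, 4, 1, 3, 5, 3, 1, 2, 4],
    [2, 5, 3, 0, 2, 4, 2, 0, 5, 2, 0, 3, 4, 0, 3, 3, 2, 1, 5, 2, 1, 3, 4, 1, 3, 5, 3, 1, 2, 4],
    [4, 5, 3, 0, 2, 4, 2, 0, 5, 2, 0, 3, 4, 0, 3, 5, 2, 1, 5, 2, 1, 3, 4, 1, 3, 5, 3, 1, 2, 4],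
    [0, 5, 0, 5, 0, 3, 5, 0, 3, 0, 4, 3, 5, 0, 3, 1, 2, 1, 4, 2, 5, 1, 2, 1, 4, 2, 1, 4, 1, 4],
    [2, 5, 0, 5, 0, 3, 5, 0, 3, 0, 4, 3, 5, 0, 3, 3, 2, 1, 4, 2, 5, 1, 2, 1, 4, 2, 1, 4, 1, 4],
    [4, 5, 0, 5, 0, 3, 5, 0, 3, 0, 4, 3, 5, 0, 3, 5, 2, 1, 4, 2, 5, 1, 2, 1, 4, 2, 1, 4, 1, 4],
    [0, 5, 0, 5, 0, 2, 5, 0, 2, 0, 4, 2, 5, 0, 2, 1, 3, 1, 4, 3, 5, 1, 3, 1, 4, 3, 1, 4, 1, 4],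
    [2, 5, 0, 5, 0, 2, 5, 0, 2, 0, 4, 2, 5, 0, 2, 3, 3, 1, 4, 3, 5, 1, 3, 1, 4, 3, 1, 4, 1, 4],
    [4, 5, 0, 5, 0, 2, 5, 0, 2, 0, 4, 2, 5, 0, 2, 5, 3, 1, 4, 3, 5, 1, 3, 1, 4, 3, 1, 4, 1, 4],
    [0, 5, 0, 3, 0, 4, 2, 2, 5, 0, 3, 0, 4, 2, 2, 1, 3, 3, 5, 1, 2, 1, 4, 3, 3, 5, 1, 2, 1, 4],
    [2, 5, 0, 3, 0, 4, 2, 2, 5, 0, 3, 0, 4, 2, 2, 3, 3, 3, 5, 1, 2, 1, 4, 3, 3, 5, 1, 2, 1, 4],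
    [4, 5, 0, 3, 0, 4, 2, 2, 5, 0, 3, 0, 4, 2, 2, 5, 3, 3, 5, 1, 2, 1, 4, 3, 3, 5, 1, 2, 1, 4],
    [0, 0, 0, 0, 0, 0, 0, 0, 0, 0, 0, 0, 0, 0, 2, 2, 2, 2, 2, 2, 2, 2, 2, 2, 2, 2, 2, 2, 2, 3, 1, 3, 1, 3, 1, 3, 1, 3, 1, 3, 1, 3, 1, 3, 1, 3, 1, 3, 1, 3, 1, 3, 1, 3, 1, 3, 1, 3, 1],
    [0, 0, 0, 0, 0, 0, 0, 0, 0, 0, 0, 0, 0, 0, 0, 0, 2, 2, 2, 2, 1, 2, 1, 2, 1, 3, 1, 3, 1, 3, 1, 3, 1, 3, 1, 2, 1, 2, 1, 2, 1, 3, 1, 3, 1, 3, 1, 3, 1, 3, 1],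
    [0, 0, 0, 0, 0, 0, 0, 0, 0, 0, 2, 2, 2, 2, 2, 2, 2, 2, 2, 2, 2, 2, 2, 2, 2, 3, 1, 3, 1, 3, 1, 3, 1, 3, 1, 3, 1, 3, 1, 3, 1, 3, 1, 3, 1, 3, 1, 3, 1, 3, 1, 3, 1, 3, 1, 5, 5, 5, 0, 4, 0, 5, 5, 0, 4, 0, 4, 4, 0],
    [0, 0, 0, 0, 0, 0, 0, 0, 0, 0, 0, 0, 0, 0, 0, 2, 2, 2, 2, 2, 2, 2, 2, 2, 2, 2, 2, 2, 2, 2, 3, 1, 3, 1, 3, 1, 3, 1, 3, 1, 3, 1, 3, 1, 3, 1, 3, 1, 3, 1, 3, 1, 3, 1, 3, 1, 3, 1, 3, 1, 6],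
    [2, 0, 0, 0, 0, 0, 0, 0, 0, 0, 0, 0, 0, 0, 0, 0, 0, 2, 2, 2, 2, 1, 2, 1, 2, 1, 3, 1, 3, 1, 3, 1, 3, 1, 3, 1, 2, 1, 2, 1, 2, 1, 3, 1, 3, 1, 3, 1, 3, 1, 3, 1, 7]]
  RB := 70
  tpl := fldA fA 234 70 1180591620717411303423 0 7
  tdep := fldA fA 234 70 1180591620717411303423 3 7
  ol := fldA fA 234 70 1180591620717411303423 6 7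
  oc := fldA fA 234 70 1180591620717411303423 9 1
  op := fldA fA 234 70 1180591620717411303423 10 255
  odep := fldA fA 234 70 1180591620717411303423 18 15
  orep := fun c => Tabs.nth 0 [0, 1, 39, 40, 42, 205] c

end Cfsg.Agent.Lib.Helper28.HeMult.L1
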